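import Cfsg.Agent.Lib.Classical.POmegaCard

/-!
`Ω₇(3)` in coordinates adapted to a full isotropic flag, and its relation to `PΩ` of the standard
odd form.
-/

set_option autoImplicit false

namespace Cfsg.Agent.Lib.OmegaSevenThree

open Matrix
open QuadraticMap (polarBilin)
open Cfsg.Agent.Lib.Classical Cfsg.Agent.Lib.Geometry

/-- Coordinates `(x₀, x₁, x₂, z, y₂, y₁, y₀)`. -/
def flagEquiv : (Fin 7 → ZMod 3) ≃ₗ[ZMod 3] ((Fin 3 → ZMod 3) × (Fin 3 → ZMod 3) × ZMod 3) where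
  toFun v := (![v 0, v 1, v 2], ![v 6, v 5, v 4], v 3)
  map_add' u v := by
    refine Prod.ext ?_ (Prod.ext ?_ rfl) <;> · funext i; fin_cases i <;> rfl
  map_smul' c v := by
    refine Prod.ext ?_ (Prod.ext ?_ rfl) <;> · funext i; fin_cases i <;> rfl
  invFun p := ![p.1 0, p.1 1, p.1 2, p.2.2, p.2.1 2, p.2.1 1, p.2.1 0]
  left_inv v := by funext i; fin_cases i <;> rfl
  right_inv p := by
    refine Prod.ext ?_ (Prod.ext ?_ rfl) <;> · funext i; fin_cases i <;> rfl

/-- The form. -/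
noncomputable def form : QuadraticForm (ZMod 3) (Fin 7 → ZMod 3) :=
  (hyperForm 3 (QuadraticMap.sq : QuadraticForm (ZMod 3) (ZMod 3))).comp flagEquiv.toLinearMap

theorem form_apply (v : Fin 7 → ZMod 3) :
    form v = v 0 * v 6 + v 1 * v 5 + v 2 * v 4 + v 3 * v 3 := by
  simp [form, hyperForm_apply, flagEquiv, Fin.sum_univ_three]

theorem hyper_nondegenerate :
    (polarBilin (hyperForm 3 (QuadraticMap.sq : QuadraticForm (ZMod 3) (ZMod 3)))).Nondegenerate :=
  hyperForm_nondegenerate 3 _ (sq_nondegenerate (by decide))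

theorem form_nondegenerate : (polarBilin form).Nondegenerate :=
  nondegenerate_of_equiv form _ flagEquiv (fun _ => rfl) hyper_nondegenerate

/-- The full isometry group. -/
noncomputable abbrev Orth : Subgroup (GL (Fin 7) (ZMod 3)) := Cfsg.isometryGroup (ZMod 3) ⇑form

/-- The group `Ω`. -/
noncomputable abbrev Om : Subgroup Orth := Cfsg.Omega (ZMod 3) ⇑form

/-- The matrix of an isometry. -/
noncomputable def toM : Orth →* Matrix (Fin 7) (Fin 7) (ZMod 3) :=
  (Units.coeHom _).comp Orth.subtype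

theorem toM_injective : Function.Injective toM := fun a b h =>
  Subtype.ext (Units.ext h)

theorem form_toM (g : Orth) (v : Fin 7 → ZMod 3) : form (toM g *ᵥ v) = form v := g.2 v v

/-- The Gram matrix. -/
def gram : Matrix (Fin 7) (Fin 7) (ZMod 3) :=
  ![![0, 0, 0, 0, 0, 0, 1], ![0, 0, 0, 0, 0, 1, 0], ![0, 0, 0, 0, 1, 0, 0], ![0, 0, 0, 2, 0, 0, 0],
    ![0, 0, 1, 0, 0, 0, 0], ![0, 1, 0, 0, 0, 0, 0], ![1, 0, 0, 0, 0, 0, 0]]

theorem gram_mul_gram : gram * gram = 1 := by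
  decide +kernel

theorem gram_mulVec (v : Fin 7 → ZMod 3) :
    gram *ᵥ v = ![v 6, v 5, v 4, 2 * v 3, v 2, v 1, v 0] := by
  funext i
  show gram i ⬝ᵥ v = _
  fin_cases i <;> rw [dotProduct, Fin.sum_univ_seven] <;> simp [gram]

theorem form_eq_gram (v : Fin 7 → ZMod 3) : form v = 2 * (v ⬝ᵥ gram *ᵥ v) := by
  rw [form_apply, gram_mulVec, dotProduct, Fin.sum_univ_seven]
  have h3 : (3 : ZMod 3) = 0 := rfl
  show _ = 2 * (v 0 * v 6 + v 1 * v 5 + v 2 * v 4 + v 3 * (2 * v 3) + v 4 * v 2 + v 5 * v 1 + v 6 * v 0)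
  linear_combination (-(v 0 * v 6 + v 1 * v 5 + v 2 * v 4 + v 3 * v 3)) * h3

theorem form_mulVec_of_gram {A : Matrix (Fin 7) (Fin 7) (ZMod 3)} (h : Aᵀ * gram * A = gram)
    (v : Fin 7 → ZMod 3) : form (A *ᵥ v) = form v := by
  have e : (A *ᵥ v) ⬝ᵥ gram *ᵥ (A *ᵥ v) = v ⬝ᵥ (Aᵀ * gram * A) *ᵥ v := by
    rw [← mulVec_mulVec, ← mulVec_mulVec, dotProduct_mulVec v Aᵀ, vecMul_transpose]
  rw [h] at e
  rw [form_eq_gram, form_eq_gram, e]

/-- The isometry with a given matrix. -/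
noncomputable def ofMat (A : Matrix (Fin 7) (Fin 7) (ZMod 3)) (h : Aᵀ * gram * A = gram) : Orth :=
  ⟨⟨A, gram * Aᵀ * gram, mul_eq_one_comm.mp (by rw [Matrix.mul_assoc, Matrix.mul_assoc,
      ← Matrix.mul_assoc Aᵀ, h, gram_mul_gram]),
    by rw [Matrix.mul_assoc, Matrix.mul_assoc, ← Matrix.mul_assoc Aᵀ, h, gram_mul_gram]⟩,
    fun v _ => form_mulVec_of_gram h v⟩

@[simp]
theorem toM_ofMat (A : Matrix (Fin 7) (Fin 7) (ZMod 3)) (h : Aᵀ * gram * A = gram) :
    toM (ofMat A h) = A := rfl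

theorem index_Om : Om.index = 4 := by
  have h := index_commutator_odd form form_nondegenerate (by decide)
    (by rw [Module.finrank_fintype_fun_eq_card]; simp)
  exact (index_commutator_congr (isometryEquiv form)).trans h

theorem mem_Om_of_cube (x : Orth) (h : x ^ 3 = 1) : x ∈ Om := by
  have h4 : x ^ 4 ∈ Om := by
    have := Om.pow_index_mem x
    rwa [index_Om] at this
  rwa [pow_succ, h, one_mul] at h4

/-- The standard model is isomorphic to ours. -/
noncomputable def stdEquiv :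
    Orth ≃* Cfsg.isometryGroup (ZMod 3) (Cfsg.quadFormOdd 3 (ZMod 3)) :=
  (isometryMulEquiv flagEquiv ⇑form (hyperForm 3 QuadraticMap.sq) (fun _ => rfl)).symm.trans
    (isometryMulEquiv (oddEquiv 3 (ZMod 3)) (Cfsg.quadFormOdd 3 (ZMod 3)) (hyperForm 3 QuadraticMap.sq)
      (quadFormOdd_eq_hyper 3))

theorem stdEquiv_map :
    Om.map stdEquiv.toMonoidHom = Cfsg.Omega (ZMod 3) (Cfsg.quadFormOdd 3 (ZMod 3)) :=
  map_commutator_of_equiv stdEquiv

theorem center_eq_bot :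
    Subgroup.center (Cfsg.Omega (ZMod 3) (Cfsg.quadFormOdd 3 (ZMod 3))) = ⊥ := by
  refine Subgroup.card_eq_one.mp ?_
  rw [card_center_Omega (QuadraticMap.sq : QuadraticForm (ZMod 3) (ZMod 3)) 3 le_rfl
    hyper_nondegenerate (oddEquiv 3 (ZMod 3)) _ (quadFormOdd_eq_hyper 3), if_neg]
  rintro ⟨-, g, hg, hgm⟩
  have hdet : (Matrix.GeneralLinearGroup.det.comp
      (Cfsg.isometryGroup (ZMod 3) (Cfsg.quadFormOdd 3 (ZMod 3))).subtype) g = 1 :=
    MonoidHom.mem_ker.mp (Abelianization.commutator_subset_ker _ hg)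
  have h := congrArg Units.val hdet
  rw [MonoidHom.comp_apply, Matrix.GeneralLinearGroup.val_det_apply, Units.val_one,
    Subgroup.coe_subtype] at h
  rw [hgm, Matrix.det_neg, Matrix.det_one,
    show Fintype.card (Unit ⊕ (Fin 3 ⊕ Fin 3)) = 7 by simp] at h
  exact absurd h (by decide +kernel)

/-- The projection onto `PΩ`. -/
noncomputable def toPOmega : Om →* Cfsg.POmega (ZMod 3) (Cfsg.quadFormOdd 3 (ZMod 3)) :=
  (QuotientGroup.mk' _).comp
    (((stdEquiv.toMonoidHom).comp Om.subtype).codRestrict _ fun g =>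
      stdEquiv_map ▸ Subgroup.mem_map_of_mem _ g.2)

theorem toPOmega_bijective : Function.Bijective toPOmega := by
  refine ⟨(injective_iff_map_eq_one _).mpr fun g hg => ?_, fun x => ?_⟩
  · have h := (QuotientGroup.eq_one_iff _).mp hg
    rw [center_eq_bot, Subgroup.mem_bot] at h
    have h' : stdEquiv (g : Orth) = 1 := congrArg Subtype.val h
    exact Subtype.ext (stdEquiv.injective (h'.trans (map_one stdEquiv).symm))
  · obtain ⟨⟨y, hy⟩, rfl⟩ := QuotientGroup.mk'_surjective _ x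
    rw [← stdEquiv_map] at hy
    obtain ⟨g, hg, rfl⟩ := hy
    exact ⟨⟨g, hg⟩, rfl⟩

theorem card_Om : Nat.card Om = 19683 * 232960 := by
  have h := Subgroup.index_mul_card Om
  rw [index_Om, Nat.card_congr stdEquiv.toEquiv, card_orth_odd (ZMod.card 3) (by decide) 3] at h
  rw [show 2 * 3 ^ 3 ^ 2 * ∏ i ∈ Finset.range 3, ((3 : ℕ) ^ (2 * (i + 1)) - 1) = 18341406720 by
    simp [Finset.prod_range_succ]] at h
  omega

end Cfsg.Agent.Lib.OmegaSevenThree
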