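import Cfsg.Agent.Lib.OmegaSevenThree.Step

/-!
A part of the check of the fusion forest.
-/

set_option autoImplicit false

namespace Cfsg.Agent.Lib.OmegaSevenThree

theorem check3 : checkFrom 6561 2187 = true := by
  decide +kernel

end Cfsg.Agent.Lib.OmegaSevenThree
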