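import Cfsg.Agent.Lib.OmegaSevenThree.Check0
import Cfsg.Agent.Lib.OmegaSevenThree.Check1
import Cfsg.Agent.Lib.OmegaSevenThree.Check2
import Cfsg.Agent.Lib.OmegaSevenThree.Check3
import Cfsg.Agent.Lib.OmegaSevenThree.Check4
import Cfsg.Agent.Lib.OmegaSevenThree.Check5
import Cfsg.Agent.Lib.OmegaSevenThree.Check6
import Cfsg.Agent.Lib.OmegaSevenThree.Check7
import Cfsg.Agent.Lib.OmegaSevenThree.Check8

/-!
The fusion forest is correct.
-/

set_option autoImplicit false

namespace Cfsg.Agent.Lib.OmegaSevenThree

theorem check_all (k : ℕ) (hk : k < 19683) : checkEntry k (tab k) = true := by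
  rcases Nat.lt_or_ge k 2187 with h0 | h0
  · exact checkFrom_spec check0 k (by omega) (by omega)
  rcases Nat.lt_or_ge k 4374 with h1 | h1
  · exact checkFrom_spec check1 k (by omega) (by omega)
  rcases Nat.lt_or_ge k 6561 with h2 | h2
  · exact checkFrom_spec check2 k (by omega) (by omega)
  rcases Nat.lt_or_ge k 8748 with h3 | h3
  · exact checkFrom_spec check3 k (by omega) (by omega)
  rcases Nat.lt_or_ge k 10935 with h4 | h4
  · exact checkFrom_spec check4 k (by omega) (by omega)
  rcases Nat.lt_or_ge k 13122 with h5 | h5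
  · exact checkFrom_spec check5 k (by omega) (by omega)
  rcases Nat.lt_or_ge k 15309 with h6 | h6
  · exact checkFrom_spec check6 k (by omega) (by omega)
  rcases Nat.lt_or_ge k 17496 with h7 | h7
  · exact checkFrom_spec check7 k (by omega) (by omega)
  exact checkFrom_spec check8 k (by omega) (by omega)

end Cfsg.Agent.Lib.OmegaSevenThree
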