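import Mathlib

/-!
Generated data: the spin representation and lifts of the representatives.
-/

set_option autoImplicit false

namespace Cfsg.Agent.Lib.OmegaSevenThree

/-- The Clifford action of a vector on the eight-dimensional spin space. -/
def gam (w : Fin 7 → ZMod 3) : Matrix (Fin 8) (Fin 8) (ZMod 3) :=
  ![![w 3, w 6, w 5, 0, w 4, 0, 0, 0],
    ![w 0, -w 3, 0, -w 5, 0, -w 4, 0, 0],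
    ![w 1, 0, -w 3, w 6, 0, 0, -w 4, 0],
    ![0, -w 1, w 0, w 3, 0, 0, 0, w 4],
    ![w 2, 0, 0, 0, -w 3, w 6, w 5, 0],
    ![0, -w 2, 0, 0, w 0, w 3, 0, -w 5],
    ![0, 0, -w 2, 0, w 1, 0, w 3, w 6],
    ![0, 0, 0, w 2, 0, -w 1, w 0, -w 3]]

/-- Lifts of the representatives. -/
def repLift : Fin 7 → Matrix (Fin 8) (Fin 8) (ZMod 3) :=
  ![![![1, 0, 0, 0, 0, 0, 0, 0], ![0, 1, 1, 0, 0, 0, 0, 0], ![0, 0, 1, 0, 0, 0, 0, 0], ![0, 0, 0, 1, 0, 0, 0, 0], ![0, 0, 0, 0, 1, 0, 0, 0], ![0, 0, 0, 0, 0, 1, 1, 0], ![0, 0, 0, 0, 0, 0, 1, 0], ![0, 0, 0, 0, 0, 0, 0, 1]],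
    ![![1, 0, 0, 0, 0, 0, 0, 0], ![0, 1, 0, 0, 0, 0, 0, 0], ![0, 0, 1, 0, 0, 0, 0, 0], ![0, 0, 0, 1, 0, 0, 0, 0], ![2, 0, 0, 0, 1, 0, 0, 0], ![0, 2, 0, 0, 0, 1, 0, 0], ![0, 0, 2, 0, 0, 0, 1, 0], ![0, 0, 0, 2, 0, 0, 0, 1]],
    ![![1, 0, 0, 0, 0, 0, 0, 0], ![0, 1, 1, 0, 0, 0, 0, 0], ![0, 0, 1, 0, 1, 0, 0, 0], ![0, 0, 0, 1, 0, 1, 1, 0], ![0, 0, 0, 0, 1, 0, 0, 0], ![0, 0, 0, 0, 0, 1, 1, 0], ![0, 0, 0, 0, 0, 0, 1, 0], ![0, 0, 0, 0, 0, 0, 0, 1]],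
    ![![1, 0, 0, 0, 0, 0, 0, 0], ![0, 1, 1, 0, 0, 0, 0, 0], ![0, 0, 1, 0, 0, 0, 0, 0], ![0, 0, 0, 1, 0, 0, 0, 0], ![2, 0, 0, 0, 1, 0, 0, 0], ![0, 2, 2, 0, 0, 1, 1, 0], ![0, 0, 2, 0, 0, 0, 1, 0], ![0, 0, 0, 2, 0, 0, 0, 1]],
    ![![1, 0, 0, 0, 0, 0, 0, 0], ![0, 1, 2, 0, 0, 0, 0, 0], ![0, 0, 1, 0, 0, 0, 0, 0], ![0, 0, 0, 1, 0, 0, 0, 0], ![2, 0, 0, 0, 1, 0, 0, 0], ![0, 2, 1, 0, 0, 1, 2, 0], ![0, 0, 2, 0, 0, 0, 1, 0], ![0, 0, 0, 2, 0, 0, 0, 1]],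
    ![![1, 0, 0, 0, 0, 0, 0, 0], ![0, 1, 0, 0, 0, 0, 0, 0], ![0, 0, 1, 0, 2, 0, 0, 0], ![0, 0, 0, 1, 0, 2, 0, 0], ![0, 0, 0, 0, 1, 0, 0, 0], ![0, 0, 0, 0, 0, 1, 0, 0], ![1, 0, 0, 0, 0, 0, 1, 0], ![0, 1, 0, 0, 0, 0, 0, 1]],
    ![![1, 0, 0, 0, 0, 0, 0, 0], ![2, 1, 0, 0, 0, 0, 0, 0], ![0, 0, 1, 0, 1, 0, 0, 0], ![0, 0, 1, 1, 1, 1, 0, 0], ![0, 0, 0, 0, 1, 0, 0, 0], ![0, 0, 0, 0, 1, 1, 0, 0], ![1, 0, 0, 0, 0, 0, 1, 0], ![2, 1, 0, 0, 0, 0, 2, 1]]]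

/-- The invariant form of the spin space. -/
def spinForm (u : Fin 8 → ZMod 3) : ZMod 3 := u 1 * u 6 - u 0 * u 7 + (u 3 * u 4 - u 2 * u 5)

end Cfsg.Agent.Lib.OmegaSevenThree
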