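import Cfsg.Agent.Lib.OmegaSevenThree.Data
import Cfsg.Agent.Lib.OmegaSevenThree.SpinData

/-!
The invariants of the representatives: fixed vectors by value of the forms.
-/

set_option autoImplicit false
set_option maxRecDepth 100000

namespace Cfsg.Agent.Lib.OmegaSevenThree

open Matrix

theorem count_vec : ∀ i : Fin 7, Fintype.card {w : Fin 7 → ZMod 3 //
    w 0 * w 6 + w 1 * w 5 + w 2 * w 4 + w 3 * w 3 = 0 ∧ (uniCode (repCode i)).toMat *ᵥ w = w} =
    ![81, 99, 9, 27, 27, 63, 9] i := by
  decide +kernel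

end Cfsg.Agent.Lib.OmegaSevenThree
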