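import Cfsg.Agent.Lib.OmegaSevenThree.SpinData

/-!
The invariants of the representatives: fixed vectors by value of the forms.
-/

set_option autoImplicit false
set_option maxRecDepth 100000

namespace Cfsg.Agent.Lib.OmegaSevenThree

open Matrix

theorem count_spin : ∀ i : Fin 7, Fintype.card {u : Fin 8 → ZMod 3 //
    spinForm u = 1 ∧ repLift i *ᵥ u = u} = ![216, 0, 18, 54, 0, 0, 36] i := by
  decide +kernel

end Cfsg.Agent.Lib.OmegaSevenThree
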