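import Cfsg.Agent.Lib.OmegaSevenThree.Basic
import Cfsg.Agent.Lib.OmegaSevenThree.SpinData

/-!
Lifting `Ω₇(3)` to the spin space: every element of `Ω` acts on the Clifford action by conjugation
by a matrix preserving the spin form, unique up to a scalar.
-/

set_option autoImplicit false

namespace Cfsg.Agent.Lib.OmegaSevenThree

open Matrix
open scoped commutatorElement
open QuadraticMap (polarBilin)
open Cfsg.Agent.Lib.Geometry

theorem gam_sq (w : Fin 7 → ZMod 3) : gam w * gam w = form w • (1 : Matrix (Fin 8) (Fin 8) (ZMod 3)) := by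
  ext i j
  rw [Matrix.mul_apply, Fin.sum_univ_eight, form_apply]
  fin_cases i <;> fin_cases j <;> simp [gam] <;> ring

theorem gam_add (v w : Fin 7 → ZMod 3) : gam (v + w) = gam v + gam w := by
  ext i j
  rw [Matrix.add_apply]
  fin_cases i <;> fin_cases j <;> simp [gam] <;> ring

theorem gam_smul (a : ZMod 3) (w : Fin 7 → ZMod 3) : gam (a • w) = a • gam w := by
  ext i j
  rw [Matrix.smul_apply, smul_eq_mul]
  fin_cases i <;> fin_cases j <;> simp [gam]

theorem spinForm_gam (w : Fin 7 → ZMod 3) (u : Fin 8 → ZMod 3) :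
    spinForm (gam w *ᵥ u) = -form w * spinForm u := by
  simp [spinForm, gam, mulVec, dotProduct, Fin.sum_univ_eight, form_apply]
  ring

theorem spinForm_smul (a : ZMod 3) (u : Fin 8 → ZMod 3) : spinForm (a • u) = a ^ 2 * spinForm u := by
  simp [spinForm]
  ring

/-- `g` lifts the isometry `k`, up to the signs `ε` and `c`. -/
structure Lifts (g : GL (Fin 8) (ZMod 3)) (k : Orth) (ε c : (ZMod 3)ˣ) : Prop where
  conj : ∀ w, (g : Matrix (Fin 8) (Fin 8) (ZMod 3)) * gam w =
    (ε : ZMod 3) • (gam (toM k *ᵥ w) * (g : Matrix (Fin 8) (Fin 8) (ZMod 3)))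
  scale : ∀ u, spinForm ((g : Matrix (Fin 8) (Fin 8) (ZMod 3)) *ᵥ u) = (c : ZMod 3) * spinForm u

theorem Lifts.mul {g h : GL (Fin 8) (ZMod 3)} {k l : Orth} {ε δ c d : (ZMod 3)ˣ}
    (hg : Lifts g k ε c) (hh : Lifts h l δ d) : Lifts (g * h) (k * l) (ε * δ) (c * d) where
  conj w := by
    rw [Units.val_mul, Matrix.mul_assoc, hh.conj w, Matrix.mul_smul, ← Matrix.mul_assoc, hg.conj,
      Matrix.smul_mul, smul_smul, Matrix.mul_assoc, map_mul, ← mulVec_mulVec, Units.val_mul]
    congr 1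
    exact mul_comm _ _
  scale u := by
    rw [Units.val_mul, ← mulVec_mulVec, hg.scale, hh.scale, Units.val_mul, mul_assoc]

theorem Lifts.inv {g : GL (Fin 8) (ZMod 3)} {k : Orth} {ε c : (ZMod 3)ˣ} (hg : Lifts g k ε c) :
    Lifts g⁻¹ k⁻¹ ε⁻¹ c⁻¹ where
  conj w := by
    have h := hg.conj (toM k⁻¹ *ᵥ w)
    rw [mulVec_mulVec, ← map_mul, mul_inv_cancel, map_one, one_mulVec] at h
    have h' := congrArg (fun A : Matrix (Fin 8) (Fin 8) (ZMod 3) =>
      (↑g⁻¹ : Matrix (Fin 8) (Fin 8) (ZMod 3)) * A * (↑g⁻¹ : Matrix (Fin 8) (Fin 8) (ZMod 3))) h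
    simp only [Matrix.mul_smul, Matrix.smul_mul] at h'
    rw [← Matrix.mul_assoc, Units.inv_mul, Matrix.one_mul, Matrix.mul_assoc _ (gam w * _),
      Matrix.mul_assoc (gam w), Units.mul_inv, Matrix.mul_one] at h'
    rw [h', smul_smul, Units.inv_mul, one_smul]
  scale u := by
    have h := hg.scale ((↑g⁻¹ : Matrix (Fin 8) (Fin 8) (ZMod 3)) *ᵥ u)
    rw [mulVec_mulVec, Units.mul_inv, one_mulVec] at h
    rw [h, ← mul_assoc, Units.inv_mul, one_mul]

theorem Lifts.one : Lifts 1 1 1 1 where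
  conj w := by simp
  scale u := by simp

/-- The isometries admitting a lift. -/
noncomputable def liftable : Subgroup Orth where
  carrier := {k | ∃ g ε c, Lifts g k ε c}
  mul_mem' := fun ⟨g, ε, c, hg⟩ ⟨h, δ, d, hh⟩ => ⟨g * h, ε * δ, c * d, hg.mul hh⟩
  one_mem' := ⟨1, 1, 1, Lifts.one⟩
  inv_mem' := fun ⟨g, ε, c, hg⟩ => ⟨g⁻¹, ε⁻¹, c⁻¹, hg.inv⟩

theorem liftable_eq_top : liftable = ⊤ := by
  have h : Subgroup.closure {g : quadIsometries form | ∃ v, form v ≠ 0 ∧ g = refl form v} = ⊤ :=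
    closure_refl_eq_top form form_nondegenerate
      (Or.inr (by rw [Module.finrank_fintype_fun_eq_card]; simp))
  refine Subgroup.map_injective (f := (isometryEquiv form).toMonoidHom) (isometryEquiv form).injective ?_
  rw [Subgroup.map_top_of_surjective _ (isometryEquiv form).surjective, eq_top_iff, ← h,
    Subgroup.closure_le]
  rintro _ ⟨v, hv, rfl⟩
  refine ⟨(isometryEquiv form).symm (refl form v), ?_, (isometryEquiv form).apply_symm_apply _⟩
  have hk : ∀ x, toM ((isometryEquiv form).symm (refl form v)) *ᵥ x =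
      x - ((form v)⁻¹ * polarBilin form v x) • v := by
    intro x
    have h' := isometryEquiv_apply form ((isometryEquiv form).symm (refl form v)) x
    rw [(isometryEquiv form).apply_symm_apply, refl_apply] at h'
    exact h'.symm
  let g : GL (Fin 8) (ZMod 3) := ⟨gam v, (form v)⁻¹ • gam v,
    by rw [Matrix.mul_smul, gam_sq, smul_smul, inv_mul_cancel₀ hv, one_smul],
    by rw [Matrix.smul_mul, gam_sq, smul_smul, inv_mul_cancel₀ hv, one_smul]⟩
  refine ⟨g, -1, Units.mk0 (-form v) (neg_ne_zero.mpr hv), ⟨fun w => ?_, fun u => spinForm_gam v u⟩⟩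
  show gam v * gam w = ((-1 : (ZMod 3)ˣ) : ZMod 3) •
    (gam (toM ((isometryEquiv form).symm (refl form v)) *ᵥ w) * gam v)
  have hpol : gam v * gam w + gam w * gam v =
      polarBilin form v w • (1 : Matrix (Fin 8) (Fin 8) (ZMod 3)) := by
    have e := gam_sq (v + w)
    rw [gam_add, Matrix.add_mul, Matrix.mul_add, Matrix.mul_add, gam_sq, gam_sq] at e
    rw [QuadraticMap.polarBilin_apply_apply, QuadraticMap.polar, sub_smul, sub_smul, ← e]
    abel
  rw [hk, sub_eq_add_neg, ← neg_smul, gam_add, gam_smul, Matrix.add_mul, Matrix.smul_mul, gam_sq,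
    smul_smul, Units.val_neg, Units.val_one, neg_one_smul, neg_mul, mul_assoc,
    mul_comm (polarBilin form v w), ← mul_assoc, inv_mul_cancel₀ hv, one_mul, neg_smul, ← hpol]
  abel

theorem exists_lift (k : Om) : ∃ g, Lifts g (k : Orth) 1 1 := by
  let T : Subgroup Orth :=
    { carrier := {k | ∃ g, Lifts g k 1 1}
      mul_mem' := fun ⟨g, hg⟩ ⟨h, hh⟩ => ⟨g * h, by simpa using hg.mul hh⟩
      one_mem' := ⟨1, Lifts.one⟩
      inv_mem' := fun ⟨g, hg⟩ => ⟨g⁻¹, by simpa using hg.inv⟩ }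
  have hle : commutator Orth ≤ T := by
    rw [commutator_def, Subgroup.commutator_le]
    intro a _ b _
    obtain ⟨g, ε, c, hg⟩ : a ∈ liftable := by rw [liftable_eq_top]; trivial
    obtain ⟨h, δ, d, hh⟩ : b ∈ liftable := by rw [liftable_eq_top]; trivial
    have H := ((hg.mul hh).mul hg.inv).mul hh.inv
    rw [show ε * δ * ε⁻¹ * δ⁻¹ = 1 by rw [mul_comm ε δ]; group,
      show c * d * c⁻¹ * d⁻¹ = 1 by rw [mul_comm c d]; group] at H
    exact ⟨g * h * g⁻¹ * h⁻¹, H⟩
  exact hle k.2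

/-- Whether bit `s` of the index of a basis vector of the spin space is set. -/
def occDiag (s : Fin 3) : Fin 8 → ZMod 3 :=
  ![![0, 1, 0, 1, 0, 1, 0, 1], ![0, 0, 1, 1, 0, 0, 1, 1], ![0, 0, 0, 0, 1, 1, 1, 1]] s

theorem gam_occ : ∀ s : Fin 3,
    gam (Pi.single (![0, 1, 2] s) 1) * gam (Pi.single (![6, 5, 4] s) 1) = Matrix.diagonal (occDiag s) := by
  decide +kernel

theorem scalar_of_commute (h : Matrix (Fin 8) (Fin 8) (ZMod 3))
    (hc : ∀ w, h * gam w = gam w * h) : ∃ a : ZMod 3, h = a • 1 := by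
  have hoff : ∀ i j, i ≠ j → h i j = 0 := by
    intro i j hij
    have hs : ∀ i j : Fin 8, i ≠ j → ∃ s : Fin 3, occDiag s i ≠ occDiag s j := by decide +kernel
    obtain ⟨s, hs⟩ := hs i j hij
    have hd : h * Matrix.diagonal (occDiag s) = Matrix.diagonal (occDiag s) * h := by
      rw [← gam_occ, ← Matrix.mul_assoc, hc, Matrix.mul_assoc, hc, Matrix.mul_assoc]
    have e := congrFun (congrFun hd i) j
    rw [Matrix.mul_diagonal, Matrix.diagonal_mul] at e
    by_contra h0
    exact hs (mul_right_cancel₀ h0 (e.symm.trans (mul_comm _ _)))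
  have hdiag : h = Matrix.diagonal (fun i => h i i) := by
    ext i j
    rcases eq_or_ne i j with rfl | hij
    · rw [Matrix.diagonal_apply_eq]
    · rw [Matrix.diagonal_apply_ne _ hij, hoff i j hij]
  have key : ∀ (k : Fin 7) (i j : Fin 8), gam (Pi.single k 1) i j ≠ 0 → h i i = h j j := by
    intro k i j hne
    have e := congrFun (congrFun (hc (Pi.single k 1)) i) j
    rw [hdiag, Matrix.diagonal_mul, Matrix.mul_diagonal] at e
    exact mul_right_cancel₀ hne (e.trans (mul_comm _ _))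
  refine ⟨h 0 0, ?_⟩
  have h1 := key 0 1 0 (by decide +kernel)
  have h2 := key 1 2 0 (by decide +kernel)
  have h4 := key 2 4 0 (by decide +kernel)
  have h3 := key 0 3 2 (by decide +kernel)
  have h5 := key 0 5 4 (by decide +kernel)
  have h6 := key 1 6 4 (by decide +kernel)
  have h7 := key 0 7 6 (by decide +kernel)
  rw [hdiag]
  ext i j
  rcases eq_or_ne i j with rfl | hij
  · rw [Matrix.diagonal_apply_eq, Matrix.smul_apply, Matrix.one_apply_eq, smul_eq_mul, mul_one]
    fin_cases i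
    · rfl
    · exact h1
    · exact h2
    · exact h3.trans h2
    · exact h4
    · exact h5.trans h4
    · exact h6.trans h4
    · exact h7.trans (h6.trans h4)
  · rw [Matrix.diagonal_apply_ne _ hij, Matrix.smul_apply, Matrix.one_apply_ne hij, smul_zero]

end Cfsg.Agent.Lib.OmegaSevenThree
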