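import Cfsg.Agent.Lib.OmegaSevenThree.Uni
import Cfsg.Agent.Lib.OmegaSevenThree.Spin
import Cfsg.Agent.Lib.OmegaSevenThree.Count
import Cfsg.Agent.Lib.OmegaSevenThree.CountSpin

/-!
`Ω₇(3)` has exactly seven conjugacy classes of subgroups of order `3`.
-/

set_option autoImplicit false

namespace Cfsg.Agent.Lib.OmegaSevenThree

open Matrix

theorem exists_good (X : Subgroup Om) (hX : Nat.card X = 3) :
    ∃ (i : Fin 7) (g : Om), X.map (MulAut.conj g).toMonoidHom = Subgroup.zpowers (rep i) := by
  haveI : Fact (Nat.Prime 3) := ⟨Nat.prime_three⟩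
  have hXp : IsPGroup 3 X := IsPGroup.of_card (n := 1) (by rw [hX, pow_one])
  obtain ⟨P, hP⟩ := hXp.exists_le_sylow
  obtain ⟨T, hT⟩ := triSub_isPGroup.exists_le_sylow
  have hTeq : (T : Subgroup Om) = triSub := by
    refine (Subgroup.eq_of_le_of_card_ge hT ?_).symm
    obtain ⟨n, hn⟩ := IsPGroup.iff_card.mp T.2
    have hdvd := (T : Subgroup Om).card_subgroup_dvd_card
    rw [hn, card_Om] at hdvd
    have hcop : Nat.Coprime (3 ^ n) 232960 := Nat.Coprime.pow_left n (by norm_num)
    rw [hn, card_triSub]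
    exact Nat.le_of_dvd (by norm_num) (hcop.dvd_of_dvd_mul_right hdvd)
  obtain ⟨g, hg⟩ := MulAction.exists_smul_eq Om P T
  have hXT : X.map (MulAut.conj g).toMonoidHom ≤ triSub := by
    rw [← hTeq, ← hg, Sylow.coe_subgroup_smul]
    exact Subgroup.map_mono hP
  set Y := X.map (MulAut.conj g).toMonoidHom with hY
  have hYc : Nat.card Y = 3 := by
    exact (Nat.card_congr ((MulAut.conj g).subgroupMap X).toEquiv.symm).trans hX
  obtain ⟨y, hy⟩ := (isCyclic_of_prime_card hYc).exists_generator
  have hord : orderOf (y : Om) = 3 := by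
    rw [Subgroup.orderOf_coe, orderOf_eq_card_of_forall_mem_zpowers hy, hYc]
  have hYz : Y = Subgroup.zpowers (y : Om) := by
    refine (Subgroup.eq_of_le_of_card_ge (Subgroup.zpowers_le.mpr y.2) ?_).symm
    rw [Nat.card_zpowers, hord, hYc]
  obtain ⟨k, hk, hky⟩ := exists_code (hXT y.2)
  have hgood : Good (uniOm k) := by
    rcases Nat.eq_zero_or_pos k with rfl | hk0
    · exfalso
      have h0 : uniOm 0 = 1 := Subtype.ext (toM_injective (by
        show (uniCode 0).toMat = toM 1
        rw [map_one, show uniCode 0 = M7.one from rfl, M7.toMat_one]))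
      rw [hky, h0, orderOf_one] at hord
      omega
    · refine good_code k hk0 hk ?_
      have h3 := pow_orderOf_eq_one (y : Om)
      rw [hord, hky] at h3
      exact h3
  obtain ⟨i, h, hh⟩ := hgood
  refine ⟨i, h * g, ?_⟩
  rw [← map_conj_mul, ← hY, hYz, hky]
  exact hh

theorem rep_cube (j : Fin 7) : rep j ^ 3 = 1 := by
  have hc : ∀ j, ((uniCode (repCode j)).mul (uniCode (repCode j))).mul (uniCode (repCode j)) = M7.one :=
    fun j => M7.eq_of_beq ((by decide +kernel : ∀ j, (((uniCode (repCode j)).mul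
      (uniCode (repCode j))).mul (uniCode (repCode j))).beq M7.one = true) j)
  refine Subtype.ext (toM_injective ?_)
  rw [SubmonoidClass.coe_pow, map_pow, OneMemClass.coe_one, map_one, pow_three']
  show (uniCode _).toMat * (uniCode _).toMat * (uniCode _).toMat = 1
  rw [← M7.toMat_mul, ← M7.toMat_mul, hc, M7.toMat_one]

theorem rep_ne_one (i : Fin 7) : rep i ≠ 1 := fun hh => by
  have h1 : toM (rep i : Orth) = 1 := by rw [hh, OneMemClass.coe_one, map_one]
  exact (by decide +kernel : ∀ i, (uniCode (repCode i)).toMat ≠ 1) i h1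

/-- The number of singular fixed vectors. -/
noncomputable def vecInv (x : Om) : ℕ :=
  Nat.card {w : Fin 7 → ZMod 3 // form w = 0 ∧ toM (x : Orth) *ᵥ w = w}

/-- The number of fixed spinors of norm `1`. -/
noncomputable def spinInv (l : Matrix (Fin 8) (Fin 8) (ZMod 3)) : ℕ :=
  Nat.card {u : Fin 8 → ZMod 3 // spinForm u = 1 ∧ l *ᵥ u = u}

theorem vecInv_rep (i : Fin 7) : vecInv (rep i) = ![81, 99, 9, 27, 27, 63, 9] i := by
  rw [← count_vec i, ← Nat.card_eq_fintype_card, vecInv]
  refine Nat.card_congr (Equiv.subtypeEquivRight fun w => ?_)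
  rw [form_apply]
  rfl

theorem spinInv_rep (i : Fin 7) : spinInv (repLift i) = ![216, 0, 18, 54, 0, 0, 36] i := by
  rw [← count_spin i, ← Nat.card_eq_fintype_card, spinInv]

theorem repLift_cube : ∀ i, repLift i * repLift i * repLift i = 1 := by decide +kernel

theorem repLift_basis : ∀ (i : Fin 7) (k : Fin 7),
    repLift i * gam (Pi.single k 1) =
      gam ((uniCode (repCode i)).toMat *ᵥ Pi.single k 1) * repLift i := by
  decide +kernel

theorem repLift_conj (i : Fin 7) (w : Fin 7 → ZMod 3) :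
    repLift i * gam w = gam (toM (rep i : Orth) *ᵥ w) * repLift i := by
  let γ : (Fin 7 → ZMod 3) →ₗ[ZMod 3] Matrix (Fin 8) (Fin 8) (ZMod 3) :=
    { toFun := gam, map_add' := gam_add, map_smul' := gam_smul }
  have h : (LinearMap.mulLeft (ZMod 3) (repLift i)).comp γ =
      (LinearMap.mulRight (ZMod 3) (repLift i)).comp (γ.comp (uniCode (repCode i)).toMat.mulVecLin) :=
    (Pi.basisFun (ZMod 3) (Fin 7)).ext fun k => by
      rw [Pi.basisFun_apply]
      exact repLift_basis i k
  exact LinearMap.congr_fun h w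

theorem fixed_eq_of_conj {n : Type*} [Fintype n] [DecidableEq n]
    (g gi a b : Matrix n n (ZMod 3)) (h1 : gi * g = 1) (h2 : g * gi = 1) (hab : g * a = b * g)
    (f : (n → ZMod 3) → ZMod 3) (hf : ∀ u, f (g *ᵥ u) = f u) (c : ZMod 3) :
    Nat.card {u // f u = c ∧ a *ᵥ u = u} = Nat.card {u // f u = c ∧ b *ᵥ u = u} := by
  refine Nat.card_congr
    { toFun := fun u => ⟨g *ᵥ u.1, (hf _).trans u.2.1, by rw [mulVec_mulVec, ← hab, ← mulVec_mulVec, u.2.2]⟩
      invFun := fun u => ⟨gi *ᵥ u.1, by rw [← hf, mulVec_mulVec, h2, one_mulVec]; exact u.2.1, ?_⟩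
      left_inv := fun u => Subtype.ext (by simp [mulVec_mulVec, h1])
      right_inv := fun u => Subtype.ext (by simp [mulVec_mulVec, h2]) }
  have : a * gi = gi * b := by
    calc a * gi = gi * g * (a * gi) := by rw [h1, Matrix.one_mul]
      _ = gi * (g * a) * gi := by simp only [Matrix.mul_assoc]
      _ = gi * b := by rw [hab, Matrix.mul_assoc, Matrix.mul_assoc, h2, Matrix.mul_one]
  rw [mulVec_mulVec, this, ← mulVec_mulVec, u.2.2]

theorem fixed_sq {n : Type*} [Fintype n] [DecidableEq n] (a : Matrix n n (ZMod 3)) (h : a * a * a = 1)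
    (u : n → ZMod 3) : (a * a) *ᵥ u = u ↔ a *ᵥ u = u := by
  constructor
  · intro hu
    conv_rhs => rw [← Matrix.one_mulVec u, ← h, Matrix.mul_assoc, ← mulVec_mulVec]
    rw [hu]
  · intro hu
    rw [← mulVec_mulVec, hu, hu]

theorem inv_eq_of_conj {i j : Fin 7} {g : Om}
    (h : (Subgroup.zpowers (rep i)).map (MulAut.conj g).toMonoidHom = Subgroup.zpowers (rep j)) :
    vecInv (rep i) = vecInv (rep j) ∧ spinInv (repLift i) = spinInv (repLift j) := by
  have hj3 := rep_cube
  have hmem : MulAut.conj g (rep i) ∈ Subgroup.zpowers (rep j) := by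
    rw [← h]
    exact Subgroup.mem_map_of_mem _ (Subgroup.mem_zpowers _)
  obtain ⟨e, he⟩ := (isOfFinOrder_of_finite (rep j)).mem_powers_iff_mem_zpowers.mpr hmem
  have hne := rep_ne_one i
  have he' : g * rep i = rep j ^ (e % 3) * g := by
    have he2 : rep j ^ e = g * rep i * g⁻¹ := he
    rw [← Nat.mod_add_div e 3, pow_add, pow_mul, hj3, one_pow, mul_one] at he2
    rw [he2, inv_mul_cancel_right]
  have hcases : e % 3 = 1 ∨ e % 3 = 2 := by
    rcases (show e % 3 = 0 ∨ e % 3 = 1 ∨ e % 3 = 2 by omega) with h0 | h0 | h0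
    · exfalso
      rw [h0, pow_zero, one_mul, mul_eq_left] at he'
      exact hne he'
    · exact Or.inl h0
    · exact Or.inr h0
  have hO : toM (g : Orth) * toM (rep i : Orth) = toM (rep j : Orth) ^ (e % 3) * toM (g : Orth) := by
    rw [← map_mul, ← map_pow, ← map_mul]
    exact congrArg toM (congrArg Subtype.val he')
  have hgi : toM (g⁻¹ : Om).1 * toM (g : Orth) = 1 := by
    rw [← map_mul, ← Subgroup.coe_mul, inv_mul_cancel, OneMemClass.coe_one, map_one]
  have hgg : toM (g : Orth) * toM (g⁻¹ : Om).1 = 1 := mul_eq_one_comm.mp hgi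
  have hjm : toM (rep j : Orth) * toM (rep j : Orth) * toM (rep j : Orth) = 1 := by
    rw [← map_mul, ← map_mul, ← pow_three', ← SubmonoidClass.coe_pow, hj3, OneMemClass.coe_one, map_one]
  obtain ⟨γ, hγ⟩ := exists_lift g
  have hc1 : ∀ w, (γ : Matrix (Fin 8) (Fin 8) (ZMod 3)) * gam w =
      gam (toM (g : Orth) *ᵥ w) * (γ : Matrix (Fin 8) (Fin 8) (ZMod 3)) := fun w => by
    simpa using hγ.conj w
  have hs : ∀ u, spinForm ((γ : Matrix (Fin 8) (Fin 8) (ZMod 3)) *ᵥ u) = spinForm u := fun u => by
    simpa using hγ.scale u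
  -- the lift of the power
  have hpow : ∀ w, repLift j ^ (e % 3) * gam w =
      gam (toM (rep j : Orth) ^ (e % 3) *ᵥ w) * repLift j ^ (e % 3) := fun w => by
    rcases hcases with h0 | h0 <;> rw [h0]
    · simp only [pow_one]
      exact repLift_conj j w
    · rw [pow_two, pow_two, Matrix.mul_assoc, repLift_conj, ← Matrix.mul_assoc, repLift_conj,
        mulVec_mulVec, Matrix.mul_assoc]
  set G := (γ : Matrix (Fin 8) (Fin 8) (ZMod 3)) with hG
  set Gi := ((γ⁻¹ : GL (Fin 8) (ZMod 3)) : Matrix (Fin 8) (Fin 8) (ZMod 3)) with hGi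
  have hA : ∀ w, G * repLift i * gam w = gam (toM (g : Orth) *ᵥ (toM (rep i : Orth) *ᵥ w)) * (G * repLift i) := by
    intro w
    rw [Matrix.mul_assoc, repLift_conj, ← Matrix.mul_assoc, hc1, Matrix.mul_assoc]
  have hB : ∀ w, repLift j ^ (e % 3) * G * gam w =
      gam (toM (g : Orth) *ᵥ (toM (rep i : Orth) *ᵥ w)) * (repLift j ^ (e % 3) * G) := by
    intro w
    rw [Matrix.mul_assoc, hc1, ← Matrix.mul_assoc, hpow, mulVec_mulVec, ← hO, ← mulVec_mulVec,
      Matrix.mul_assoc]
  have hLj : repLift j ^ (e % 3) * repLift j ^ (3 - e % 3) = 1 := by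
    rw [← pow_add, show e % 3 + (3 - e % 3) = 3 by omega, pow_three', repLift_cube]
  -- the two differ by a scalar
  obtain ⟨a, ha⟩ := scalar_of_commute (repLift i * repLift i * Gi * repLift j ^ (e % 3) * G) (by
    intro w
    have hinvA : repLift i * repLift i * Gi *
        gam (toM (g : Orth) *ᵥ (toM (rep i : Orth) *ᵥ w)) = gam w * (repLift i * repLift i * Gi) := by
      have hone : repLift i * repLift i * Gi * (G * repLift i) = 1 := by
        rw [Matrix.mul_assoc _ Gi, ← Matrix.mul_assoc Gi, hGi, hG, Units.inv_mul, Matrix.one_mul,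
          repLift_cube]
      have hone' : G * repLift i * (repLift i * repLift i * Gi) = 1 := mul_eq_one_comm.mp hone
      calc _ = repLift i * repLift i * Gi * (gam (toM (g : Orth) *ᵥ (toM (rep i : Orth) *ᵥ w)) *
              (G * repLift i) * (repLift i * repLift i * Gi)) := by
            rw [Matrix.mul_assoc _ (G * repLift i), hone', Matrix.mul_one]
        _ = repLift i * repLift i * Gi * (G * repLift i * gam w * (repLift i * repLift i * Gi)) := by
            rw [hA]
        _ = _ := by rw [← Matrix.mul_assoc, ← Matrix.mul_assoc _ (G * repLift i), hone, Matrix.one_mul]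
    rw [Matrix.mul_assoc _ (repLift j ^ (e % 3)) G, Matrix.mul_assoc, hB, ← Matrix.mul_assoc, hinvA,
      Matrix.mul_assoc])
  have hrel : repLift j ^ (e % 3) * G = a • (G * repLift i) := by
    have := congrArg (G * repLift i * ·) ha
    simp only [Matrix.mul_smul, Matrix.mul_one] at this
    rw [← this]
    simp only [← Matrix.mul_assoc]
    rw [Matrix.mul_assoc (G * repLift i) (repLift i), Matrix.mul_assoc G (repLift i),
      ← Matrix.mul_assoc (repLift i), repLift_cube, Matrix.mul_one, hG, hGi, Units.mul_inv,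
      Matrix.one_mul]
  have hpow3 : (repLift j ^ (e % 3)) * (repLift j ^ (e % 3)) * (repLift j ^ (e % 3)) = 1 := by
    rw [← pow_add, ← pow_add, show e % 3 + e % 3 + e % 3 = 3 * (e % 3) by omega, pow_mul,
      pow_three', repLift_cube, one_pow]
  have ha1 : a = 1 := by
    have e3 : G = (a * a * a) • G := by
      calc G = repLift j ^ (e % 3) * repLift j ^ (e % 3) * repLift j ^ (e % 3) * G := by
            rw [hpow3, Matrix.one_mul]
        _ = (a * a * a) • (G * (repLift i * repLift i * repLift i)) := by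
            simp only [Matrix.mul_assoc, hrel, Matrix.mul_smul]
            simp only [← Matrix.mul_assoc, hrel, Matrix.smul_mul, Matrix.mul_smul, smul_smul]
            simp only [Matrix.mul_assoc, mul_assoc]
        _ = _ := by rw [repLift_cube, Matrix.mul_one]
    have e4 := congrArg (Gi * ·) e3
    simp only [Matrix.mul_smul, hGi, hG, Units.inv_mul] at e4
    have e5 := congrFun (congrFun e4 0) 0
    rw [Matrix.smul_apply, Matrix.one_apply_eq, smul_eq_mul, mul_one] at e5
    have : ∀ x : ZMod 3, x * x * x = x := by decide +kernel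
    rw [this] at e5
    exact e5.symm
  rw [ha1, one_smul] at hrel
  constructor
  · refine (fixed_eq_of_conj _ _ _ _ hgi hgg hO form (form_toM g) 0).trans ?_
    rcases hcases with h0 | h0 <;> rw [h0]
    · rw [pow_one]; rfl
    · refine Nat.card_congr (Equiv.subtypeEquivRight fun w => ?_)
      rw [pow_two, fixed_sq _ hjm]
  · refine (fixed_eq_of_conj G Gi _ _ (Units.inv_mul γ) (Units.mul_inv γ) hrel.symm spinForm hs 1).trans ?_
    rcases hcases with h0 | h0 <;> rw [h0]
    · rw [pow_one]; rfl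
    · refine Nat.card_congr (Equiv.subtypeEquivRight fun w => ?_)
      rw [pow_two, fixed_sq _ (repLift_cube j)]

theorem eq_of_conj {i j : Fin 7} {g : Om}
    (h : (Subgroup.zpowers (rep i)).map (MulAut.conj g).toMonoidHom = Subgroup.zpowers (rep j)) :
    i = j := by
  obtain ⟨h1, h2⟩ := inv_eq_of_conj h
  rw [vecInv_rep, vecInv_rep] at h1
  rw [spinInv_rep, spinInv_rep] at h2
  revert h1 h2
  clear h
  revert i j
  decide +kernel

theorem card_rep (i : Fin 7) : Nat.card (Subgroup.zpowers (rep i)) = 3 := by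
  haveI : Fact (Nat.Prime 3) := ⟨Nat.prime_three⟩
  rw [Nat.card_zpowers]
  exact orderOf_eq_prime (rep_cube i) (rep_ne_one i)

end Cfsg.Agent.Lib.OmegaSevenThree
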