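import Cfsg.Agent.Lib.OmegaSevenThree.Mat

/-!
Generated data: the unitriangular isometries of the seven-dimensional form over the field of three
elements, root elements and class representatives.
-/

set_option autoImplicit false

namespace Cfsg.Agent.Lib.OmegaSevenThree

/-- The unitriangular isometry with the nine given entries. -/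
def uni (a0 a1 a2 a3 a4 a5 a6 a7 a8 : ℕ) : M7 :=
  ⟨⟨1, a0, a3, a6, a7, a8, (2 * a0 * a8 + 2 * a3 * a7 + 2 * a6 * a6) % 3⟩,
    ⟨0, 1, a1, a4, a5, (2 * a1 * a5 + 2 * a4 * a4) % 3, (a0 * a1 * a5 + a0 * a4 * a4 + 2 * a1 * a7 + 2 * a3 * a5 + a4 * a6 + 2 * a8) % 3⟩,
    ⟨0, 0, 1, a2, (2 * a2 * a2) % 3, (a1 * a2 * a2 + a2 * a4 + 2 * a5) % 3, (2 * a0 * a1 * a2 * a2 + 2 * a0 * a2 * a4 + a0 * a5 + a2 * a2 * a3 + a2 * a6 + 2 * a7) % 3⟩,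
    ⟨0, 0, 0, 1, (a2) % 3, (2 * a1 * a2 + a4) % 3, (a0 * a1 * a2 + 2 * a0 * a4 + 2 * a2 * a3 + a6) % 3⟩,
    ⟨0, 0, 0, 0, 1, (2 * a1) % 3, (a0 * a1 + 2 * a3) % 3⟩,
    ⟨0, 0, 0, 0, 0, 1, (2 * a0) % 3⟩,
    ⟨0, 0, 0, 0, 0, 0, 1⟩⟩

/-- The same over the field. -/
def uniZ (a0 a1 a2 a3 a4 a5 a6 a7 a8 : ZMod 3) : Matrix (Fin 7) (Fin 7) (ZMod 3) :=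
  ![![1, a0, a3, a6, a7, a8, 2 * a0 * a8 + 2 * a3 * a7 + 2 * a6 * a6],
    ![0, 1, a1, a4, a5, 2 * a1 * a5 + 2 * a4 * a4, a0 * a1 * a5 + a0 * a4 * a4 + 2 * a1 * a7 + 2 * a3 * a5 + a4 * a6 + 2 * a8],
    ![0, 0, 1, a2, 2 * a2 * a2, a1 * a2 * a2 + a2 * a4 + 2 * a5, 2 * a0 * a1 * a2 * a2 + 2 * a0 * a2 * a4 + a0 * a5 + a2 * a2 * a3 + a2 * a6 + 2 * a7],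
    ![0, 0, 0, 1, a2, 2 * a1 * a2 + a4, a0 * a1 * a2 + 2 * a0 * a4 + 2 * a2 * a3 + a6],
    ![0, 0, 0, 0, 1, 2 * a1, a0 * a1 + 2 * a3],
    ![0, 0, 0, 0, 0, 1, 2 * a0],
    ![0, 0, 0, 0, 0, 0, 1]]

/-- The unitriangular isometry with code `k`. -/
def uniCode (k : ℕ) : M7 :=
  uni (k % 3) (k / 3 % 3) (k / 9 % 3) (k / 27 % 3) (k / 81 % 3) (k / 243 % 3) (k / 729 % 3)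
    (k / 2187 % 3) (k / 6561 % 3)

/-- Root elements. -/
def genM : ℕ → M7
  | 0 => ⟨⟨1, 1, 0, 0, 0, 0, 0⟩, ⟨0, 1, 0, 0, 0, 0, 0⟩, ⟨0, 0, 1, 0, 0, 0, 0⟩, ⟨0, 0, 0, 1, 0, 0, 0⟩, ⟨0, 0, 0, 0, 1, 0, 0⟩, ⟨0, 0, 0, 0, 0, 1, 2⟩, ⟨0, 0, 0, 0, 0, 0, 1⟩⟩
  | 1 => ⟨⟨1, 0, 0, 0, 0, 0, 0⟩, ⟨0, 1, 1, 0, 0, 0, 0⟩, ⟨0, 0, 1, 0, 0, 0, 0⟩, ⟨0, 0, 0, 1, 0, 0, 0⟩, ⟨0, 0, 0, 0, 1, 2, 0⟩, ⟨0, 0, 0, 0, 0, 1, 0⟩, ⟨0, 0, 0, 0, 0, 0, 1⟩⟩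
  | 2 => ⟨⟨1, 0, 0, 0, 0, 0, 0⟩, ⟨0, 1, 0, 0, 0, 0, 0⟩, ⟨0, 0, 1, 1, 2, 0, 0⟩, ⟨0, 0, 0, 1, 1, 0, 0⟩, ⟨0, 0, 0, 0, 1, 0, 0⟩, ⟨0, 0, 0, 0, 0, 1, 0⟩, ⟨0, 0, 0, 0, 0, 0, 1⟩⟩
  | 3 => ⟨⟨1, 0, 1, 0, 0, 0, 0⟩, ⟨0, 1, 0, 0, 0, 0, 0⟩, ⟨0, 0, 1, 0, 0, 0, 0⟩, ⟨0, 0, 0, 1, 0, 0, 0⟩, ⟨0, 0, 0, 0, 1, 0, 2⟩, ⟨0, 0, 0, 0, 0, 1, 0⟩, ⟨0, 0, 0, 0, 0, 0, 1⟩⟩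
  | 4 => ⟨⟨1, 0, 0, 0, 0, 0, 0⟩, ⟨0, 1, 0, 1, 0, 2, 0⟩, ⟨0, 0, 1, 0, 0, 0, 0⟩, ⟨0, 0, 0, 1, 0, 1, 0⟩, ⟨0, 0, 0, 0, 1, 0, 0⟩, ⟨0, 0, 0, 0, 0, 1, 0⟩, ⟨0, 0, 0, 0, 0, 0, 1⟩⟩
  | 5 => ⟨⟨1, 0, 0, 0, 0, 0, 0⟩, ⟨0, 1, 0, 0, 1, 0, 0⟩, ⟨0, 0, 1, 0, 0, 2, 0⟩, ⟨0, 0, 0, 1, 0, 0, 0⟩, ⟨0, 0, 0, 0, 1, 0, 0⟩, ⟨0, 0, 0, 0, 0, 1, 0⟩, ⟨0, 0, 0, 0, 0, 0, 1⟩⟩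
  | 6 => ⟨⟨1, 0, 0, 1, 0, 0, 2⟩, ⟨0, 1, 0, 0, 0, 0, 0⟩, ⟨0, 0, 1, 0, 0, 0, 0⟩, ⟨0, 0, 0, 1, 0, 0, 1⟩, ⟨0, 0, 0, 0, 1, 0, 0⟩, ⟨0, 0, 0, 0, 0, 1, 0⟩, ⟨0, 0, 0, 0, 0, 0, 1⟩⟩
  | 7 => ⟨⟨1, 0, 0, 0, 1, 0, 0⟩, ⟨0, 1, 0, 0, 0, 0, 0⟩, ⟨0, 0, 1, 0, 0, 0, 2⟩, ⟨0, 0, 0, 1, 0, 0, 0⟩, ⟨0, 0, 0, 0, 1, 0, 0⟩, ⟨0, 0, 0, 0, 0, 1, 0⟩, ⟨0, 0, 0, 0, 0, 0, 1⟩⟩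
  | 8 => ⟨⟨1, 0, 0, 0, 0, 1, 0⟩, ⟨0, 1, 0, 0, 0, 0, 2⟩, ⟨0, 0, 1, 0, 0, 0, 0⟩, ⟨0, 0, 0, 1, 0, 0, 0⟩, ⟨0, 0, 0, 0, 1, 0, 0⟩, ⟨0, 0, 0, 0, 0, 1, 0⟩, ⟨0, 0, 0, 0, 0, 0, 1⟩⟩
  | 9 => ⟨⟨1, 0, 0, 0, 0, 0, 0⟩, ⟨1, 1, 0, 0, 0, 0, 0⟩, ⟨0, 0, 1, 0, 0, 0, 0⟩, ⟨0, 0, 0, 1, 0, 0, 0⟩, ⟨0, 0, 0, 0, 1, 0, 0⟩, ⟨0, 0, 0, 0, 0, 1, 0⟩, ⟨0, 0, 0, 0, 0, 2, 1⟩⟩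
  | 10 => ⟨⟨1, 0, 0, 0, 0, 0, 0⟩, ⟨0, 1, 0, 0, 0, 0, 0⟩, ⟨0, 1, 1, 0, 0, 0, 0⟩, ⟨0, 0, 0, 1, 0, 0, 0⟩, ⟨0, 0, 0, 0, 1, 0, 0⟩, ⟨0, 0, 0, 0, 2, 1, 0⟩, ⟨0, 0, 0, 0, 0, 0, 1⟩⟩
  | 11 => ⟨⟨1, 0, 0, 0, 0, 0, 0⟩, ⟨0, 1, 0, 0, 0, 0, 0⟩, ⟨0, 0, 1, 0, 0, 0, 0⟩, ⟨0, 0, 1, 1, 0, 0, 0⟩, ⟨0, 0, 2, 1, 1, 0, 0⟩, ⟨0, 0, 0, 0, 0, 1, 0⟩, ⟨0, 0, 0, 0, 0, 0, 1⟩⟩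
  | 12 => ⟨⟨1, 0, 0, 0, 0, 0, 0⟩, ⟨2, 1, 0, 0, 0, 0, 0⟩, ⟨0, 0, 1, 0, 0, 0, 0⟩, ⟨0, 0, 0, 1, 0, 0, 0⟩, ⟨0, 0, 0, 0, 1, 0, 0⟩, ⟨0, 0, 0, 0, 0, 1, 0⟩, ⟨0, 0, 0, 0, 0, 1, 1⟩⟩
  | 13 => ⟨⟨1, 0, 0, 0, 0, 0, 0⟩, ⟨0, 1, 0, 0, 0, 0, 0⟩, ⟨0, 2, 1, 0, 0, 0, 0⟩, ⟨0, 0, 0, 1, 0, 0, 0⟩, ⟨0, 0, 0, 0, 1, 0, 0⟩, ⟨0, 0, 0, 0, 1, 1, 0⟩, ⟨0, 0, 0, 0, 0, 0, 1⟩⟩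
  | 14 => ⟨⟨1, 0, 0, 0, 0, 0, 0⟩, ⟨0, 1, 0, 0, 0, 0, 0⟩, ⟨0, 0, 1, 0, 0, 0, 0⟩, ⟨0, 0, 2, 1, 0, 0, 0⟩, ⟨0, 0, 2, 2, 1, 0, 0⟩, ⟨0, 0, 0, 0, 0, 1, 0⟩, ⟨0, 0, 0, 0, 0, 0, 1⟩⟩
  | _ => M7.one

/-- Codes of the representatives. -/
def repCode : Fin 7 → ℕ := ![1, 9, 4, 10, 11, 249, 975]

end Cfsg.Agent.Lib.OmegaSevenThree
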