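import Mathlib

/-!
Seven-by-seven arithmetic on residues modulo `3`, in a form the kernel evaluates quickly.
-/

set_option autoImplicit false

namespace Cfsg.Agent.Lib.OmegaSevenThree

open Matrix

/-- A row of seven numbers. -/
structure R7 where
  a0 : ℕ
  a1 : ℕ
  a2 : ℕ
  a3 : ℕ
  a4 : ℕ
  a5 : ℕ
  a6 : ℕ

/-- Seven rows. -/
structure M7 where
  r0 : R7
  r1 : R7
  r2 : R7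
  r3 : R7
  r4 : R7
  r5 : R7
  r6 : R7

/-- The entries of a row. -/
def R7.get (r : R7) : Fin 7 → ℕ := ![r.a0, r.a1, r.a2, r.a3, r.a4, r.a5, r.a6]

/-- The rows. -/
def M7.get (A : M7) : Fin 7 → R7 := ![A.r0, A.r1, A.r2, A.r3, A.r4, A.r5, A.r6]

/-- The matrix of residues. -/
def M7.toMat (A : M7) : Matrix (Fin 7) (Fin 7) (ZMod 3) :=
  fun i j => (((A.get i).get j : ℕ) : ZMod 3)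

/-- A row times a matrix. -/
def rowMul (r : R7) (B : M7) : R7 where
  a0 := (r.a0 * B.r0.a0 + r.a1 * B.r1.a0 + r.a2 * B.r2.a0 + r.a3 * B.r3.a0 + r.a4 * B.r4.a0 + r.a5 * B.r5.a0 + r.a6 * B.r6.a0) % 3
  a1 := (r.a0 * B.r0.a1 + r.a1 * B.r1.a1 + r.a2 * B.r2.a1 + r.a3 * B.r3.a1 + r.a4 * B.r4.a1 + r.a5 * B.r5.a1 + r.a6 * B.r6.a1) % 3
  a2 := (r.a0 * B.r0.a2 + r.a1 * B.r1.a2 + r.a2 * B.r2.a2 + r.a3 * B.r3.a2 + r.a4 * B.r4.a2 + r.a5 * B.r5.a2 + r.a6 * B.r6.a2) % 3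
  a3 := (r.a0 * B.r0.a3 + r.a1 * B.r1.a3 + r.a2 * B.r2.a3 + r.a3 * B.r3.a3 + r.a4 * B.r4.a3 + r.a5 * B.r5.a3 + r.a6 * B.r6.a3) % 3
  a4 := (r.a0 * B.r0.a4 + r.a1 * B.r1.a4 + r.a2 * B.r2.a4 + r.a3 * B.r3.a4 + r.a4 * B.r4.a4 + r.a5 * B.r5.a4 + r.a6 * B.r6.a4) % 3
  a5 := (r.a0 * B.r0.a5 + r.a1 * B.r1.a5 + r.a2 * B.r2.a5 + r.a3 * B.r3.a5 + r.a4 * B.r4.a5 + r.a5 * B.r5.a5 + r.a6 * B.r6.a5) % 3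
  a6 := (r.a0 * B.r0.a6 + r.a1 * B.r1.a6 + r.a2 * B.r2.a6 + r.a3 * B.r3.a6 + r.a4 * B.r4.a6 + r.a5 * B.r5.a6 + r.a6 * B.r6.a6) % 3

/-- The product modulo `3`. -/
def M7.mul (A B : M7) : M7 where
  r0 := rowMul A.r0 B
  r1 := rowMul A.r1 B
  r2 := rowMul A.r2 B
  r3 := rowMul A.r3 B
  r4 := rowMul A.r4 B
  r5 := rowMul A.r5 B
  r6 := rowMul A.r6 B

/-- The identity. -/
def M7.one : M7 :=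
  ⟨⟨1, 0, 0, 0, 0, 0, 0⟩, ⟨0, 1, 0, 0, 0, 0, 0⟩, ⟨0, 0, 1, 0, 0, 0, 0⟩, ⟨0, 0, 0, 1, 0, 0, 0⟩,
    ⟨0, 0, 0, 0, 1, 0, 0⟩, ⟨0, 0, 0, 0, 0, 1, 0⟩, ⟨0, 0, 0, 0, 0, 0, 1⟩⟩

/-- A row as one number. -/
def R7.code (r : R7) : ℕ :=
  (((((r.a0 * 4 + r.a1) * 4 + r.a2) * 4 + r.a3) * 4 + r.a4) * 4 + r.a5) * 4 + r.a6

/-- Equality test. -/
def M7.beq (A B : M7) : Bool :=
  Nat.beq A.r0.a0 B.r0.a0 && Nat.beq A.r0.a1 B.r0.a1 && Nat.beq A.r0.a2 B.r0.a2 &&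
  Nat.beq A.r0.a3 B.r0.a3 && Nat.beq A.r0.a4 B.r0.a4 && Nat.beq A.r0.a5 B.r0.a5 &&
  Nat.beq A.r0.a6 B.r0.a6 &&
  Nat.beq A.r1.a0 B.r1.a0 && Nat.beq A.r1.a1 B.r1.a1 && Nat.beq A.r1.a2 B.r1.a2 &&
  Nat.beq A.r1.a3 B.r1.a3 && Nat.beq A.r1.a4 B.r1.a4 && Nat.beq A.r1.a5 B.r1.a5 &&
  Nat.beq A.r1.a6 B.r1.a6 &&
  Nat.beq A.r2.a0 B.r2.a0 && Nat.beq A.r2.a1 B.r2.a1 && Nat.beq A.r2.a2 B.r2.a2 &&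
  Nat.beq A.r2.a3 B.r2.a3 && Nat.beq A.r2.a4 B.r2.a4 && Nat.beq A.r2.a5 B.r2.a5 &&
  Nat.beq A.r2.a6 B.r2.a6 &&
  Nat.beq A.r3.a0 B.r3.a0 && Nat.beq A.r3.a1 B.r3.a1 && Nat.beq A.r3.a2 B.r3.a2 &&
  Nat.beq A.r3.a3 B.r3.a3 && Nat.beq A.r3.a4 B.r3.a4 && Nat.beq A.r3.a5 B.r3.a5 &&
  Nat.beq A.r3.a6 B.r3.a6 &&
  Nat.beq A.r4.a0 B.r4.a0 && Nat.beq A.r4.a1 B.r4.a1 && Nat.beq A.r4.a2 B.r4.a2 &&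
  Nat.beq A.r4.a3 B.r4.a3 && Nat.beq A.r4.a4 B.r4.a4 && Nat.beq A.r4.a5 B.r4.a5 &&
  Nat.beq A.r4.a6 B.r4.a6 &&
  Nat.beq A.r5.a0 B.r5.a0 && Nat.beq A.r5.a1 B.r5.a1 && Nat.beq A.r5.a2 B.r5.a2 &&
  Nat.beq A.r5.a3 B.r5.a3 && Nat.beq A.r5.a4 B.r5.a4 && Nat.beq A.r5.a5 B.r5.a5 &&
  Nat.beq A.r5.a6 B.r5.a6 &&
  Nat.beq A.r6.a0 B.r6.a0 && Nat.beq A.r6.a1 B.r6.a1 && Nat.beq A.r6.a2 B.r6.a2 &&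
  Nat.beq A.r6.a3 B.r6.a3 && Nat.beq A.r6.a4 B.r6.a4 && Nat.beq A.r6.a5 B.r6.a5 &&
  Nat.beq A.r6.a6 B.r6.a6

theorem M7.eq_of_beq {A B : M7} (h : A.beq B = true) : A = B := by
  simp only [M7.beq, Bool.and_eq_true, Nat.beq_eq] at h
  rcases A with ⟨⟨⟩, ⟨⟩, ⟨⟩, ⟨⟩, ⟨⟩, ⟨⟩, ⟨⟩⟩
  rcases B with ⟨⟨⟩, ⟨⟩, ⟨⟩, ⟨⟩, ⟨⟩, ⟨⟩, ⟨⟩⟩
  simp_all

theorem M7.beq_self (A : M7) : A.beq A = true := by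
  simp [M7.beq]

theorem M7.toMat_mul (A B : M7) : (A.mul B).toMat = A.toMat * B.toMat := by
  ext i j
  fin_cases i <;> fin_cases j <;>
    simp [M7.toMat, M7.get, R7.get, M7.mul, rowMul, Matrix.mul_apply, Fin.sum_univ_seven]

theorem M7.toMat_one : M7.one.toMat = 1 := by
  ext i j
  fin_cases i <;> fin_cases j <;> simp [M7.toMat, M7.get, R7.get, M7.one]

end Cfsg.Agent.Lib.OmegaSevenThree
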