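import Cfsg.Agent.Lib.OmegaSevenThree.Data
import Cfsg.Agent.Lib.OmegaSevenThree.Table

/-!
The local check of the fusion forest.
-/

set_option autoImplicit false

namespace Cfsg.Agent.Lib.OmegaSevenThree

/-- The check at code `k` for the entry `x`. -/
def checkEntry (k x : ℕ) : Bool :=
  if Nat.beq x 0 then
    Nat.beq k 0 || !(((uniCode k).mul (uniCode k)).mul (uniCode k)).beq M7.one
  else
    let j := (x - 1) % 32
    let d := (x - 1) / 32 % 64
    let t := (x - 1) / 2048
    if Nat.ble 16 j then Nat.beq d 0 && Nat.ble j 22 && Nat.beq k (![1, 9, 4, 10, 11, 249, 975] ⟨(j - 16) % 7, Nat.mod_lt _ (by omega)⟩)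
    else Nat.blt t 19683 && Nat.beq ((tab t - 1) / 32 % 64 + 1) d && !Nat.beq (tab t) 0 &&
      (if Nat.beq j 15 then ((uniCode t).mul (uniCode t)).beq (uniCode k)
       else ((genM j).mul (uniCode k)).beq ((uniCode t).mul (genM j)))

/-- The check on a range of codes. -/
def checkFrom (start : ℕ) : ℕ → Bool
  | 0 => true
  | n + 1 => checkEntry (start + n) (tab (start + n)) && checkFrom start n

theorem checkFrom_spec {start : ℕ} : ∀ {n : ℕ}, checkFrom start n = true →
    ∀ k, start ≤ k → k < start + n → checkEntry k (tab k) = true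
  | 0, _, k, h1, h2 => absurd h2 (by omega)
  | n + 1, h, k, h1, h2 => by
    simp only [checkFrom, Bool.and_eq_true] at h
    rcases Nat.lt_or_ge k (start + n) with h3 | h3
    · exact checkFrom_spec h.2 k h1 h3
    · obtain rfl : k = start + n := by omega
      exact h.1

end Cfsg.Agent.Lib.OmegaSevenThree
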