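import Cfsg.Agent.Lib.OmegaSevenThree.Basic
import Cfsg.Agent.Lib.OmegaSevenThree.Check

/-!
The unitriangular isometries form a Sylow `3`-subgroup of `Ω₇(3)`, and every element of order `3`
in it generates a conjugate of one of seven subgroups.
-/

set_option autoImplicit false

namespace Cfsg.Agent.Lib.OmegaSevenThree

open Matrix

theorem toMat_uni (a0 a1 a2 a3 a4 a5 a6 a7 a8 : ℕ) :
    (uni a0 a1 a2 a3 a4 a5 a6 a7 a8).toMat =
      uniZ a0 a1 a2 a3 a4 a5 a6 a7 a8 := by
  ext i j
  fin_cases i <;> fin_cases j <;> simp [uni, uniZ, M7.toMat, M7.get, R7.get]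

theorem gram_uniZ (a0 a1 a2 a3 a4 a5 a6 a7 a8 : ZMod 3) :
    (uniZ a0 a1 a2 a3 a4 a5 a6 a7 a8)ᵀ * gram * uniZ a0 a1 a2 a3 a4 a5 a6 a7 a8 = gram := by
  ext i j
  simp only [Matrix.mul_apply, Matrix.transpose_apply, Fin.sum_univ_seven]
  fin_cases i <;> fin_cases j <;> simp [uniZ, gram] <;> ring_nf <;> reduce_mod_char

theorem gram_uniCode (k : ℕ) : (uniCode k).toMatᵀ * gram * (uniCode k).toMat = gram := by
  rw [uniCode, toMat_uni]
  exact gram_uniZ _ _ _ _ _ _ _ _ _

/-- The isometry with code `k`. -/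
noncomputable def uniO (k : ℕ) : Orth := ofMat (uniCode k).toMat (gram_uniCode k)

theorem toM_uniO (k : ℕ) : toM (uniO k) = (uniCode k).toMat := rfl

/-! ### Unitriangular isometries -/

/-- `N` vanishes below the `k`-th diagonal. -/
def Band (k : ℕ) (N : Matrix (Fin 7) (Fin 7) (ZMod 3)) : Prop :=
  ∀ i j : Fin 7, (j : ℕ) < i + k → N i j = 0

theorem band_mul {a b : ℕ} {M N : Matrix (Fin 7) (Fin 7) (ZMod 3)} (hM : Band a M) (hN : Band b N) :
    Band (a + b) (M * N) := by
  intro i j hij
  rw [Matrix.mul_apply]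
  refine Finset.sum_eq_zero fun l _ => ?_
  rcases Nat.lt_or_ge (l : ℕ) (i + a) with h | h
  · rw [hM i l h, zero_mul]
  · rw [hN l j (by omega), mul_zero]

theorem band_pow {N : Matrix (Fin 7) (Fin 7) (ZMod 3)} (h : Band 1 N) : ∀ k, Band k (N ^ k)
  | 0 => fun i j hij => by
    rw [pow_zero, Matrix.one_apply_ne]
    rintro rfl
    omega
  | k + 1 => by
    rw [pow_succ]
    exact band_mul (band_pow h k) h

/-- Upper unitriangular. -/
def UT (A : Matrix (Fin 7) (Fin 7) (ZMod 3)) : Prop := Band 1 (A - 1)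

theorem ut_mul {A B : Matrix (Fin 7) (Fin 7) (ZMod 3)} (hA : UT A) (hB : UT B) : UT (A * B) := by
  have e : A * B - 1 = (A - 1) * (B - 1) + (A - 1) + (B - 1) := by noncomm_ring
  intro i j hij
  rw [e, Matrix.add_apply, Matrix.add_apply, band_mul hA hB i j (by omega), hA i j hij, hB i j hij,
    add_zero, add_zero]

theorem ut_pow_nine {A : Matrix (Fin 7) (Fin 7) (ZMod 3)} (hA : UT A) : A ^ 9 = 1 := by
  haveI : Fact (Nat.Prime 3) := ⟨Nat.prime_three⟩
  have h7 : (A - 1) ^ 9 = 0 := by
    ext i j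
    exact band_pow hA 9 i j (by omega)
  have h := sub_pow_char_pow_of_commute 3 2 (Commute.one_right A)
  rw [show (3 : ℕ) ^ 2 = 9 from rfl, h7, one_pow] at h
  exact sub_eq_zero.mp h.symm

theorem ut_uniCode (k : ℕ) : UT (uniCode k).toMat := by
  intro i j hij
  rw [Matrix.sub_apply]
  fin_cases i <;> fin_cases j <;>
    first
    | (exfalso; simp at hij; done)
    | simp [uniCode, uni, M7.toMat, M7.get, R7.get]

/-- The unitriangular part of `Ω`. -/
noncomputable def triSub : Subgroup Om where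
  carrier := {x | UT (toM (x : Orth))}
  mul_mem' {x y} hx hy := by
    show UT (toM ((x : Orth) * y))
    rw [map_mul]
    exact ut_mul hx hy
  one_mem' := by
    show UT (toM ((1 : Om) : Orth))
    intro i j _
    simp
  inv_mem' {x} hx := by
    have h9 : x ^ 9 = 1 := Subtype.ext (toM_injective (by
      rw [SubmonoidClass.coe_pow, map_pow, ut_pow_nine hx]; exact (map_one toM).symm))
    have hinv : x⁻¹ = x ^ 8 := inv_eq_of_mul_eq_one_right (by rw [← pow_succ', h9])
    show UT (toM ((x⁻¹ : Om) : Orth))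
    rw [hinv, SubmonoidClass.coe_pow, map_pow]
    exact (by
      intro n
      induction n with
      | zero => intro i j _; simp
      | succ n ih => rw [pow_succ]; exact ut_mul ih hx : ∀ n : ℕ, UT (toM (x : Orth) ^ n)) 8

theorem pow_nine_of_mem_triSub {x : Om} (hx : x ∈ triSub) : x ^ 9 = 1 :=
  Subtype.ext (toM_injective (by
    rw [SubmonoidClass.coe_pow, map_pow, ut_pow_nine hx]; exact (map_one toM).symm))

theorem triSub_isPGroup : IsPGroup 3 triSub := fun x =>
  ⟨2, Subtype.ext (by simpa using pow_nine_of_mem_triSub x.2)⟩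

theorem uniO_pow_nine (k : ℕ) : uniO k ^ 9 = 1 :=
  toM_injective (by rw [map_pow, toM_uniO, ut_pow_nine (ut_uniCode k), map_one])

theorem uniO_mem (k : ℕ) : uniO k ∈ Om := by
  have h4 : ∀ y : Orth, y ^ 4 ∈ Om := fun y => by
    have := Om.pow_index_mem y
    rwa [index_Om] at this
  have h : uniO k = (uniO k ^ 4) ^ 7 := by
    rw [← pow_mul, show 4 * 7 = 9 * 3 + 1 from rfl, pow_succ, pow_mul, uniO_pow_nine, one_pow,
      one_mul]
  rw [h]
  exact Om.pow_mem (h4 _) 7

/-- The element of `Ω` with code `k`. -/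
noncomputable def uniOm (k : ℕ) : Om := ⟨uniO k, uniO_mem k⟩

theorem uniOm_mem_triSub (k : ℕ) : uniOm k ∈ triSub := ut_uniCode k

theorem uniOm_injective : Function.Injective (fun k : Fin 19683 => uniOm k) := by
  intro k l h
  have h' : (uniCode (k : ℕ)).toMat = (uniCode (l : ℕ)).toMat := congrArg (fun x : Om => toM (x : Orth)) h
  have key : ∀ i j, ((((uniCode (k : ℕ)).get i).get j : ℕ) : ZMod 3) =
      ((((uniCode (l : ℕ)).get i).get j : ℕ) : ZMod 3) := fun i j => congrFun (congrFun h' i) j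
  have key' : ∀ {a b : ℕ}, ((a % 3 : ℕ) : ZMod 3) = ((b % 3 : ℕ) : ZMod 3) → a % 3 = b % 3 := by
    intro a b hab
    have := (ZMod.natCast_eq_natCast_iff' _ _ _).mp hab
    omega
  have e0 := key' (key 0 1)
  have e1 := key' (key 1 2)
  have e2 := key' (key 2 3)
  have e3 := key' (key 0 2)
  have e4 := key' (key 1 3)
  have e5 := key' (key 1 4)
  have e6 := key' (key 0 3)
  have e7 := key' (key 0 4)
  have e8 := key' (key 0 5)
  refine Fin.ext ?_
  have := k.isLt
  have := l.isLt
  omega

theorem card_triSub : Nat.card triSub = 19683 := by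
  haveI : Fact (Nat.Prime 3) := ⟨Nat.prime_three⟩
  obtain ⟨n, hn⟩ := IsPGroup.iff_card.mp triSub_isPGroup
  have hle : 19683 ≤ Nat.card triSub := by
    have := Nat.card_le_card_of_injective
      (fun k : Fin 19683 => (⟨uniOm k, uniOm_mem_triSub k⟩ : triSub))
      (fun a b h => uniOm_injective (congrArg Subtype.val h))
    rwa [Nat.card_fin] at this
  have hdvd := triSub.card_subgroup_dvd_card
  rw [hn, card_Om] at hdvd
  have hcop : Nat.Coprime (3 ^ n) 232960 := Nat.Coprime.pow_left n (by norm_num)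
  have h19 := Nat.le_of_dvd (by norm_num) (hcop.dvd_of_dvd_mul_right hdvd)
  omega

theorem exists_code {x : Om} (hx : x ∈ triSub) : ∃ k < 19683, x = uniOm k := by
  have hb : Function.Bijective (fun k : Fin 19683 => (⟨uniOm k, uniOm_mem_triSub k⟩ : triSub)) :=
    (Nat.bijective_iff_injective_and_card _).mpr
      ⟨fun a b h => uniOm_injective (congrArg Subtype.val h), by rw [Nat.card_fin, card_triSub]⟩
  obtain ⟨k, hk⟩ := hb.2 ⟨x, hx⟩
  exact ⟨k, k.isLt, (congrArg Subtype.val hk).symm⟩

theorem R7.ext_get {r s : R7} (h : ∀ j, r.get j = s.get j) : r = s := by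
  rcases r with ⟨⟩
  rcases s with ⟨⟩
  have h0 := h 0; have h1 := h 1; have h2 := h 2; have h3 := h 3; have h4 := h 4; have h5 := h 5
  have h6 := h 6
  simp [R7.get] at h0 h1 h2 h3 h4 h5 h6
  simp [*]

theorem M7.ext_get {A B : M7} (h : ∀ i, A.get i = B.get i) : A = B := by
  rcases A with ⟨⟩
  rcases B with ⟨⟩
  have h0 := h 0; have h1 := h 1; have h2 := h 2; have h3 := h 3; have h4 := h 4; have h5 := h 5
  have h6 := h 6
  simp [M7.get] at h0 h1 h2 h3 h4 h5 h6
  simp [*]

theorem M7.mul_eq_one {A B : M7} (h : (A.mul B).toMat = 1) : A.mul B = M7.one := by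
  refine M7.ext_get fun i => R7.ext_get fun j => ?_
  have h' := congrFun (congrFun (h.trans M7.toMat_one.symm) i) j
  simp only [M7.toMat] at h'
  rw [ZMod.natCast_eq_natCast_iff'] at h'
  have hlt : ((A.mul B).get i).get j < 3 := by
    fin_cases i <;> fin_cases j <;> exact Nat.mod_lt _ (by omega)
  have hlt' : (M7.one.get i).get j < 3 := by
    revert i j
    intro i j _ _
    fin_cases i <;> fin_cases j <;> simp [M7.get, R7.get, M7.one]
  omega

/-! ### Fusion -/

theorem gram_genM (j : ℕ) : (genM j).toMatᵀ * gram * (genM j).toMat = gram := by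
  have hall : ∀ i : Fin 16, (genM i).toMatᵀ * gram * (genM i).toMat = gram := by decide +kernel
  rcases Nat.lt_or_ge j 15 with h | h
  · exact hall ⟨j, by omega⟩
  · obtain ⟨m, rfl⟩ := Nat.exists_eq_add_of_le h
    have : genM (15 + m) = M7.one := by
      rw [show 15 + m = m + 15 from add_comm _ _]
      rfl
    rw [this, M7.toMat_one, Matrix.transpose_one, Matrix.one_mul, Matrix.mul_one]

/-- The root element with number `j`. -/
noncomputable def genO (j : ℕ) : Orth := ofMat (genM j).toMat (gram_genM j)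

theorem genM_cube (j : Fin 15) : ((genM j).mul (genM j)).mul (genM j) = M7.one :=
  M7.eq_of_beq ((by decide +kernel : ∀ i : Fin 15,
    (((genM i).mul (genM i)).mul (genM i)).beq M7.one = true) j)

theorem genO_mem {j : ℕ} (hj : j < 15) : genO j ∈ Om := by
  refine mem_Om_of_cube _ (toM_injective ?_)
  rw [map_pow, map_one, genO, toM_ofMat, pow_three, ← M7.toMat_mul, ← M7.toMat_mul]
  have h := genM_cube ⟨j, hj⟩
  have h' := congrArg M7.toMat h
  rw [M7.toMat_one, M7.toMat_mul, M7.toMat_mul] at h'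
  rw [M7.toMat_mul, M7.toMat_mul, ← Matrix.mul_assoc]
  exact h'

/-- The seven representatives. -/
noncomputable def rep (i : Fin 7) : Om := uniOm (repCode i)

theorem map_zpowers_conj {G : Type*} [Group G] {x y g : G} (h : g * x = y * g) :
    (Subgroup.zpowers x).map (MulAut.conj g).toMonoidHom = Subgroup.zpowers y := by
  rw [MonoidHom.map_zpowers]
  show Subgroup.zpowers (g * x * g⁻¹) = _
  rw [h, mul_inv_cancel_right]

theorem map_conj_mul {G : Type*} [Group G] (H : Subgroup G) (k g : G) :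
    (H.map (MulAut.conj g).toMonoidHom).map (MulAut.conj k).toMonoidHom =
      H.map (MulAut.conj (k * g)).toMonoidHom := by
  rw [Subgroup.map_map]
  congr 1
  ext z
  simp [mul_assoc]

theorem zpowers_sq_eq {G : Type*} [Group G] {x y : G} (h : y * y = x) (h9 : y ^ 9 = 1) :
    Subgroup.zpowers x = Subgroup.zpowers y := by
  refine le_antisymm (Subgroup.zpowers_le.mpr ?_) (Subgroup.zpowers_le.mpr ?_)
  · rw [← h]
    exact mul_mem (Subgroup.mem_zpowers y) (Subgroup.mem_zpowers y)
  · have : y = x ^ 5 := by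
      rw [← h, ← pow_two, ← pow_mul, show 2 * 5 = 9 + 1 from rfl, pow_succ, h9, one_mul]
    rw [this]
    exact Subgroup.pow_mem _ (Subgroup.mem_zpowers x) 5

/-- `x` generates a conjugate of a representative subgroup. -/
def Good (x : Om) : Prop :=
  ∃ (i : Fin 7) (g : Om), (Subgroup.zpowers x).map (MulAut.conj g).toMonoidHom = Subgroup.zpowers (rep i)

theorem good_of_conj {x y g : Om} (h : g * x = y * g) (hy : Good y) : Good x :=
  let ⟨i, k, hk⟩ := hy
  ⟨i, k * g, (map_conj_mul _ k g).symm.trans ((congrArg _ (map_zpowers_conj h)).trans hk)⟩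

theorem good_of_sq {x y : Om} (h : y * y = x) (hy : Good y) (h9 : y ^ 9 = 1) : Good x :=
  let ⟨i, k, hk⟩ := hy
  ⟨i, k, (congrArg _ (zpowers_sq_eq h h9)).trans hk⟩

theorem cube_ne (k : ℕ) (h : ((((uniCode k).mul (uniCode k)).mul (uniCode k)).beq M7.one) = false) :
    uniOm k ^ 3 ≠ 1 := by
  intro hk
  have h1 : (uniCode k).toMat * (uniCode k).toMat * (uniCode k).toMat = 1 := by
    have := congrArg (fun x : Om => toM (x : Orth)) hk
    simp only [SubmonoidClass.coe_pow, map_pow, OneMemClass.coe_one, map_one] at this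
    rw [← this, pow_three', ]
    rfl
  rw [← M7.toMat_mul, ← M7.toMat_mul] at h1
  rw [M7.mul_eq_one h1, M7.beq_self] at h
  exact Bool.noConfusion h

theorem good_code : ∀ k, 0 < k → k < 19683 → uniOm k ^ 3 = 1 → Good (uniOm k) := by
  suffices hd : ∀ d k, k < 19683 → tab k ≠ 0 → (tab k - 1) / 32 % 64 = d → Good (uniOm k) by
    intro k hk0 hk h3
    have hc := check_all k hk
    by_cases ht : tab k = 0
    · exfalso
      have hz : Nat.beq 0 0 = true := rfl
      simp only [checkEntry, ht, hz, if_true, Bool.or_eq_true, Bool.not_eq_true', Nat.beq_eq] at hc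
      rcases hc with hc | hc
      · omega
      · exact cube_ne k hc h3
    · exact hd _ k hk ht rfl
  intro d
  induction d using Nat.strong_induction_on with
  | _ d ih =>
    intro k hk ht hdk
    have hc := check_all k hk
    have ht' : Nat.beq (tab k) 0 = false := by
      simpa [Bool.eq_false_iff, Nat.beq_eq] using ht
    simp only [checkEntry, ht', Bool.false_eq_true, if_false] at hc
    split_ifs at hc with hj h15
    · simp only [Bool.and_eq_true, Nat.beq_eq] at hc
      obtain ⟨⟨-, -⟩, hk'⟩ := hc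
      refine ⟨⟨((tab k - 1) % 32 - 16) % 7, Nat.mod_lt _ (by omega)⟩, 1, ?_⟩
      rw [map_one, rep, show repCode ⟨((tab k - 1) % 32 - 16) % 7, Nat.mod_lt _ (by omega)⟩ = k from
        hk'.symm]
      exact Subgroup.map_id _
    · simp only [Bool.and_eq_true, Nat.beq_eq, Bool.not_eq_true'] at hc
      obtain ⟨⟨⟨hlt, hdep⟩, hne⟩, heq⟩ := hc
      set t := (tab k - 1) / 2048
      have ht1 : t < 19683 := by simpa using hlt
      have ht0 : tab t ≠ 0 := fun h => by simp [h] at hne
      have hy := ih _ (by omega) t ht1 ht0 rfl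
      have e : uniOm t * uniOm t = uniOm k := Subtype.ext (toM_injective (by
        rw [Subgroup.coe_mul, map_mul]
        show (uniCode t).toMat * (uniCode t).toMat = (uniCode k).toMat
        rw [← M7.toMat_mul, M7.eq_of_beq heq]))
      exact good_of_sq e hy (pow_nine_of_mem_triSub (uniOm_mem_triSub t))
    · simp only [Bool.and_eq_true, Nat.beq_eq, Bool.not_eq_true'] at hc
      obtain ⟨⟨⟨hlt, hdep⟩, hne⟩, heq⟩ := hc
      set t := (tab k - 1) / 2048
      have ht1 : t < 19683 := by simpa using hlt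
      have ht0 : tab t ≠ 0 := fun h => by simp [h] at hne
      have hy := ih _ (by omega) t ht1 ht0 rfl
      have hj' : (tab k - 1) % 32 < 15 := by
        simp only [Nat.ble_eq, Nat.beq_eq] at hj h15
        omega
      refine good_of_conj (g := ⟨genO ((tab k - 1) % 32), genO_mem hj'⟩) ?_ hy
      refine Subtype.ext (toM_injective ?_)
      rw [Subgroup.coe_mul, Subgroup.coe_mul, map_mul, map_mul]
      show (genM _).toMat * (uniCode k).toMat = (uniCode t).toMat * (genM _).toMat
      rw [← M7.toMat_mul, ← M7.toMat_mul, M7.eq_of_beq heq]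

end Cfsg.Agent.Lib.OmegaSevenThree
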